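import Cfsg.Agent.Lib.H3.BaerSuzuki
import Cfsg.Agent.Lib.Invol.Basic

namespace CfsgLib.Invol

open Subgroup

variable {G : Type*} [Group G] [Finite G]

/-- S0200: if `t` lies in no normal 2-subgroup then it inverts a nontrivial element of odd order. -/
theorem exists_inverted_odd (t : G) (ht : orderOf t = 2)
    (hO : ∀ N : Subgroup G, N.Normal → IsPGroup 2 N → t ∉ N) :
    ∃ h : G, h ≠ 1 ∧ Odd (orderOf h) ∧ t * h * t⁻¹ = h⁻¹ := by
  by_contra hcon
  push Not at hcon
  have hp2 := Fact.mk Nat.prime_two
  obtain ⟨N, hN, hNp, hle⟩ := CfsgLib.BS.baer_suzuki (p := 2) (Subgroup.zpowers t) (by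
    intro g
    set y := g * t * g⁻¹ with hy
    have hyo : orderOf y = 2 := by
      have := (MulAut.conj g).orderOf_eq t
      rw [MulAut.conj_apply] at this
      rw [hy, this, ht]
    have hle : Subgroup.zpowers t ⊔ (Subgroup.zpowers t).map (MulAut.conj g).toMonoidHom ≤
        closure ({t, y} : Set G) := by
      apply sup_le
      · rw [zpowers_le]
        exact x_mem
      · rw [MonoidHom.map_zpowers, zpowers_le]
        exact y_mem
    apply IsPGroup.to_le _ hle
    -- the order of `r` is a power of two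
    have hr : ∃ k, orderOf (t * y) = 2 ^ k := by
      refine ⟨_, Nat.eq_prime_pow_of_unique_prime_dvd (orderOf_pos _).ne' ?_⟩
      intro d hd hdvd
      by_contra hd2
      have hord : orderOf ((t * y) ^ (orderOf (t * y) / d)) = d :=
        orderOf_pow_orderOf_div (orderOf_pos _).ne' hdvd
      apply hcon ((t * y) ^ (orderOf (t * y) / d))
      · intro h1
        rw [h1, orderOf_one] at hord
        exact hd.one_lt.ne hord
      · rw [hord]
        exact hd.odd_of_ne_two hd2
      · have := conj_zpow_mul ht hyo ((orderOf (t * y) / d : ℕ) : ℤ)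
        rw [zpow_natCast] at this
        rw [inv_eq_of_order_two ht]
        exact this
    obtain ⟨a, ha⟩ := hr
    intro x
    rcases (mem_closure_iff ht hyo x.1).1 x.2 with ⟨k, hk⟩ | ⟨k, hk⟩
    · refine ⟨a, ?_⟩
      apply Subtype.ext
      show x.1 ^ 2 ^ a = 1
      rw [hk, ← ha, ← zpow_natCast, zpow_comm, zpow_natCast, pow_orderOf_eq_one, one_zpow]
    · refine ⟨1, ?_⟩
      apply Subtype.ext
      show x.1 ^ 2 ^ 1 = 1
      rw [hk, pow_one, pow_two]
      have h1 := conj_zpow_mul ht hyo k
      calc t * (t * y) ^ k * (t * (t * y) ^ k) = (t * (t * y) ^ k * t) * (t * y) ^ k := by group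
        _ = 1 := by rw [h1]; simp)
  exact hO N hN hNp (hle (Subgroup.mem_zpowers t))

end CfsgLib.Invol
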