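import Cfsg.Agent.Lib.Invol.Basic

/-! The dihedral group generated by two involutions. -/

namespace CfsgLib.Invol

variable {G : Type*} [Group G]

/-- powers of `r` indexed by `ZMod n`. -/
lemma rp_add {r : G} {n : ℕ} [NeZero n] (hn : orderOf r = n) (i j : ZMod n) :
    r ^ (i + j).val = r ^ i.val * r ^ j.val := by
  subst hn
  rw [ZMod.val_add, pow_mod_orderOf, pow_add]

lemma rp_sub {r : G} {n : ℕ} [NeZero n] (hn : orderOf r = n) (i j : ZMod n) :
    r ^ (j - i).val = (r ^ i.val)⁻¹ * r ^ j.val := by
  have := rp_add hn (j - i) i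
  rw [sub_add_cancel] at this
  rw [this]
  have hcomm : Commute (r ^ (j - i).val) (r ^ i.val) := (Commute.refl r).pow_pow _ _
  rw [hcomm.eq]
  group

/-- The homomorphism from the dihedral group. -/
noncomputable def dihedralHom {x y : G} {n : ℕ} [NeZero n] (hx : orderOf x = 2) (hy : orderOf y = 2)
    (hn : orderOf (x * y) = n) : DihedralGroup n →* G :=
  MonoidHom.mk' (fun d => match d with
    | DihedralGroup.r i => (x * y) ^ i.val
    | DihedralGroup.sr i => x * (x * y) ^ i.val) (by
      have hpm : ∀ k : ℕ, (x * y) ^ k * x = x * ((x * y) ^ k)⁻¹ := by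
        intro k
        have := zpow_mul_left hx hy (k : ℤ)
        simpa using this
      have hcj : ∀ k : ℕ, x * (x * y) ^ k * x = ((x * y) ^ k)⁻¹ := by
        intro k
        have := conj_zpow_mul hx hy (k : ℤ)
        simpa using this
      rintro (i | i) (j | j)
      · show (x * y) ^ (i + j).val = _
        exact rp_add hn i j
      · show x * (x * y) ^ (j - i).val = (x * y) ^ i.val * (x * (x * y) ^ j.val)
        rw [rp_sub hn, ← mul_assoc, ← mul_assoc, hpm]
      · show x * (x * y) ^ (i + j).val = x * (x * y) ^ i.val * (x * y) ^ j.val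
        rw [rp_add hn, mul_assoc]
      · show (x * y) ^ (j - i).val = x * (x * y) ^ i.val * (x * (x * y) ^ j.val)
        rw [rp_sub hn, ← mul_assoc, hcj])

lemma not_mem_zpowers {x y : G} [Finite G] (hx : orderOf x = 2) (hy : orderOf y = 2)
    (hxy : x ≠ y) : x ∉ Subgroup.zpowers (x * y) := by
  intro h
  obtain ⟨k, hk⟩ := Subgroup.mem_zpowers_iff.1 h
  have hcomm : Commute (x * y) x := by
    have := (Commute.refl (x * y)).zpow_right k
    rwa [hk] at this
  have hr2 : (x * y) * (x * y) = 1 := by
    have h3 : x * (x * y) * x = (x * y)⁻¹ := by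
      have := conj_zpow_mul hx hy 1
      simpa using this
    have h4 : x * (x * y) * x = x * y := by
      rw [mul_assoc, hcomm.eq, ← mul_assoc, mul_self_of_order_two hx, one_mul]
    rw [h4] at h3
    nth_rewrite 1 [h3]
    simp
  have hr1 : x * y ≠ 1 := by
    intro h1
    apply hxy
    have h2 : x * y = y * y := by rw [h1, mul_self_of_order_two hy]
    exact mul_right_cancel h2
  have hro : orderOf (x * y) = 2 := order_two_of_mul_self hr2 hr1
  -- x ∈ ⟨r⟩ = {1, r}
  have hz : x = 1 ∨ x = x * y := by
    rcases Int.emod_two_eq_zero_or_one k with h0 | h1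
    · left
      have : (x * y) ^ k = 1 := by
        apply orderOf_dvd_iff_zpow_eq_one.1
        rw [hro]
        exact_mod_cast Int.dvd_of_emod_eq_zero h0
      rw [← hk, this]
    · right
      have h5 : (x * y) ^ (k - 1) = 1 := by
        apply orderOf_dvd_iff_zpow_eq_one.1
        rw [hro]
        push_cast
        omega
      have h6 : (x * y) ^ k = x * y := by
        have : k = (k - 1) + 1 := by ring
        rw [this, zpow_add, h5]
        simp
      nth_rewrite 1 [← hk]
      rw [h6]
  rcases hz with h1 | h1
  · exact ne_one_of_order_two hx h1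
  · have : y = 1 := by
      have h2 : x * 1 = x * y := by rw [mul_one]; exact h1
      exact (mul_left_cancel h2).symm
    exact ne_one_of_order_two hy this

theorem closure_iso {x y : G} [Finite G] (hx : orderOf x = 2) (hy : orderOf y = 2) (hxy : x ≠ y) :
    Nonempty (↥(Subgroup.closure ({x, y} : Set G)) ≃* DihedralGroup (orderOf (x * y))) := by
  have : NeZero (orderOf (x * y)) := ⟨(orderOf_pos _).ne'⟩
  set f := dihedralHom hx hy (rfl : orderOf (x * y) = orderOf (x * y)) with hf
  have hfr : ∀ i, f (DihedralGroup.r i) = (x * y) ^ i.val := fun _ => rfl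
  have hfs : ∀ i, f (DihedralGroup.sr i) = x * (x * y) ^ i.val := fun _ => rfl
  have hinj : Function.Injective f := by
    rw [injective_iff_map_eq_one]
    rintro (i | i) h
    · rw [hfr] at h
      have h1 : orderOf (x * y) ∣ i.val := orderOf_dvd_of_pow_eq_one h
      have h2 : i.val < orderOf (x * y) := ZMod.val_lt i
      have h3 : i.val = 0 := Nat.eq_zero_of_dvd_of_lt h1 h2
      rw [(ZMod.val_eq_zero i).1 h3]
      rfl
    · rw [hfs] at h
      exfalso
      apply not_mem_zpowers hx hy hxy
      have h1 : x = ((x * y) ^ i.val)⁻¹ := eq_inv_of_mul_eq_one_left h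
      have hmem : ((x * y) ^ i.val)⁻¹ ∈ Subgroup.zpowers (x * y) :=
        inv_mem (pow_mem (Subgroup.mem_zpowers _) _)
      rwa [← h1] at hmem
  have hrange : f.range = Subgroup.closure ({x, y} : Set G) := by
    apply le_antisymm
    · rintro _ ⟨d, rfl⟩
      rcases d with i | i
      · rw [hfr]; exact pow_mem r_mem _
      · rw [hfs]; exact mul_mem x_mem (pow_mem r_mem _)
    · rw [Subgroup.closure_le]
      rintro z (rfl | hz)
      · exact ⟨DihedralGroup.sr 0, by rw [hfs]; simp⟩
      · rw [Set.mem_singleton_iff] at hz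
        subst hz
        refine ⟨DihedralGroup.sr 1, ?_⟩
        rw [hfs, ZMod.val_one_eq_one_mod, pow_mod_orderOf, pow_one]
        exact (y_eq hx).symm
  exact ⟨(MulEquiv.subgroupCongr hrange.symm).trans (MonoidHom.ofInjective hinj).symm⟩

end CfsgLib.Invol
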